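import Groth.Agent.Shriek.SelfProps
import Groth.Agent.Shriek.Indep
import Groth.Agent.DualCx.Regular
import Groth.Agent.DualCx.FiniteMap

/-!
The cohomology of `φ^! R` of a closed subscheme of affine space as Ext modules.
-/

set_option autoImplicit false
set_option backward.isDefEq.respectTransparency false
set_option backward.isDefEq.respectTransparency.types false
set_option linter.style.haveILetI false
set_option linter.unusedSectionVars false
set_option maxHeartbeats 1600000

universe u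

open CategoryTheory CategoryTheory.Limits DerivedCategory
open Groth.Agent.DualCx

attribute [local instance] HasDerivedCategory.standard

namespace Groth.Agent.ExtFlatCM

noncomputable section

variable {R : Type u} [CommRing R] {N : ℕ} (I : Ideal (MvPolynomial (Fin N) R))

/-- the presentation of `P ⧸ I` -/
abbrev pres : MvPolynomial (Fin N) R →ₐ[R] MvPolynomial (Fin N) R ⧸ I := Ideal.Quotient.mkₐ R I

lemma pres_surjective : Function.Surjective (pres I) := Ideal.Quotient.mk_surjective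

variable [DRing.HasLBaseChange (algebraMap R (MvPolynomial (Fin N) R))]
  {Rψ : Dual.D (MvPolynomial (Fin N) R) ⥤ Dual.D (MvPolynomial (Fin N) R ⧸ I)}
  (adj : DRing.restrictD (pres I).toRingHom ⊣ Rψ)

local notation "P" => MvPolynomial (Fin N) R

include adj in
/-- `Hⁱ(φ^! R) = Ext^{i+N}_P(B, P)` -/
theorem hd_ext (i : ℤ) :
    (∀ (j : ℕ), (j : ℤ) = i + N → ∃ e : Dual.HD (P ⧸ I) (Dual2.shriekVia N Rψ (Dual.inD R R)) i ≃+
      Abelian.Ext (ModuleCat.of P (P ⧸ I)) (ModuleCat.of P P) j,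
        ∀ (p : P) x, e (algebraMap P (P ⧸ I) p • x) = p • e x) ∧
    (i + N < 0 → Subsingleton (Dual.HD (P ⧸ I) (Dual2.shriekVia N Rψ (Dual.inD R R)) i)) := by
  let B := P ⧸ I
  let W := Dual2.shriekVia N Rψ (Dual.inD R R)
  obtain ⟨eP⟩ := Shriek.polyD_self R N
  obtain ⟨c, hc⟩ := Shriek.RA.of_iso (Shriek.shr_shriekVia (pres I) Rψ adj (Dual.inD R R)) (Iso.refl _)
    ((shiftFunctor _ (N : ℤ)).mapIso eP)
  have hc' : IsRA (A := P) (B := B) W ((Dual.inD P P)⟦(N : ℤ)⟧) c := hc
  let S := DerivedCategory.singleFunctor (ModuleCat.{u} P) 0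
  let e1 := ((res P B).mapDerivedCategorySingleFunctor 0).app (ModuleCat.of B B)
  let e0 : Dual.inD P B ≅ (resD P B).obj (Dual.inD B B) :=
    S.mapIso (resSelf (A := P) (B := B)).symm ≪≫ e1.symm
  let Θ : T W B i ≃+ (Dual.inD P B ⟶ ((Dual.inD P P)⟦(N : ℤ)⟧)⟦i⟧) :=
    (AddEquiv.ofBijective (AddMonoidHom.mk' (raMap c i (Dual.inD B B)) (raMap_add c i _))
      (hc'.raMap_bijective i _)).trans (Linear.homCongr P e0.symm (Iso.refl _)).toAddEquiv
  have hΘ : ∀ (p : P) f, Θ (algebraMap P B p • f) = p • Θ f := fun p f => by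
    show Linear.homCongr P e0.symm (Iso.refl _) (raMap c i _ (algebraMap P B p • f)) = _
    rw [raMap_smul]
    exact (Linear.homCongr P e0.symm (Iso.refl (((Dual.inD P P)⟦(N : ℤ)⟧)⟦i⟧))).map_smul p _
  refine ⟨fun j hj => ⟨((DualCx.homEquiv W i).symm.toAddEquiv.trans Θ).trans
    (DualCx.extEquivT (A := P) B N i j (by omega)).toAddEquiv, fun p x => ?_⟩, fun h => ?_⟩
  · have h1 : (DualCx.homEquiv W i).symm (algebraMap P B p • x) = algebraMap P B p • (DualCx.homEquiv W i).symm x :=
      map_smul _ _ _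
    show DualCx.extEquivT (A := P) B N i j _ (Θ ((DualCx.homEquiv W i).symm (algebraMap P B p • x))) = _
    rw [h1, hΘ]
    exact map_smul _ _ _
  · haveI : Subsingleton (Dual.inD P B ⟶ (Dual.inD P P)⟦(N : ℤ) + i⟧) := by
      refine subsingleton_of_forall_eq 0 fun f => ?_
      haveI : ((Dual.inD P P)⟦(N : ℤ) + i⟧).IsGE (-((N : ℤ) + i)) :=
        DerivedCategory.TStructure.t.isGE_shift _ 0 ((N : ℤ) + i) _ (by omega)
      exact DerivedCategory.TStructure.t.zero f 0 (-((N : ℤ) + i)) (by omega)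
    haveI : Subsingleton (Dual.inD P B ⟶ ((Dual.inD P P)⟦(N : ℤ)⟧)⟦i⟧) :=
      (DualCx.shiftT (Dual.inD P P) (Dual.inD P B) N i _ rfl).toEquiv.subsingleton
    exact ((DualCx.homEquiv W i).symm.toAddEquiv.trans Θ).toEquiv.subsingleton

include adj in
/-- vanishing of Ext outside one degree -/
theorem ext_vanish_iff {n : ℕ} (hnN : n ≤ N) :
    (∀ j : ℕ, j ≠ N - n → Subsingleton (Abelian.Ext (ModuleCat.of P (P ⧸ I)) (ModuleCat.of P P) j)) ↔
      ∀ i : ℤ, i ≠ -(n : ℤ) → Subsingleton (Dual.HD (P ⧸ I) (Dual2.shriekVia N Rψ (Dual.inD R R)) i) := by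
  constructor
  · intro h i hi
    rcases lt_or_ge (i + N) 0 with hlt | hge
    · exact (hd_ext I adj i).2 hlt
    · obtain ⟨j, hj⟩ := Int.eq_ofNat_of_zero_le hge
      obtain ⟨e, -⟩ := (hd_ext I adj i).1 j hj.symm
      haveI := h j (by omega)
      exact e.toEquiv.subsingleton
  · intro h j hj
    obtain ⟨e, -⟩ := (hd_ext I adj ((j : ℤ) - N)).1 j (by omega)
    haveI := h ((j : ℤ) - N) (by omega)
    exact e.toEquiv.symm.subsingleton

include adj in
/-- flatness of the Ext module over the base -/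
theorem flat_ext_iff {n : ℕ} (hnN : n ≤ N) :
    Module.Flat R (RestrictScalars R P (Abelian.Ext (ModuleCat.of P (P ⧸ I)) (ModuleCat.of P P) (N - n))) ↔
      Module.Flat R ((ModuleCat.restrictScalars.{u} (algebraMap R (P ⧸ I))).obj
        ((DerivedCategory.homologyFunctor (ModuleCat.{u} (P ⧸ I)) (-(n : ℤ))).obj
          (Dual2.shriekVia N Rψ (Dual.inD R R)))) := by
  obtain ⟨e, he⟩ := (hd_ext I adj (-(n : ℤ))).1 (N - n) (by omega)
  let H := (ModuleCat.restrictScalars.{u} (algebraMap R (P ⧸ I))).obj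
    ((DerivedCategory.homologyFunctor (ModuleCat.{u} (P ⧸ I)) (-(n : ℤ))).obj (Dual2.shriekVia N Rψ (Dual.inD R R)))
  let L : H ≃ₗ[R] RestrictScalars R P (Abelian.Ext (ModuleCat.of P (P ⧸ I)) (ModuleCat.of P P) (N - n)) :=
    { e.trans (RestrictScalars.addEquiv R P _).symm with
      map_smul' := fun r x => by
        refine (congrArg (RestrictScalars.addEquiv R P _).symm ?_).trans
          (RestrictScalars.addEquiv_symm_map_algebraMap_smul R P _ r (e x))
        refine (congrArg e ?_).trans (he (algebraMap R P r) x)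
        exact congrArg (fun b : P ⧸ I => b • (x : Dual.HD (P ⧸ I) (Dual2.shriekVia N Rψ (Dual.inD R R)) _))
          (IsScalarTower.algebraMap_apply R P (P ⧸ I) r) }
  exact ⟨fun h => Module.Flat.of_linearEquiv L, fun h => Module.Flat.of_linearEquiv L.symm⟩

end

end Groth.Agent.ExtFlatCM
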