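import Groth.Agent.ShriekAffine.CMRing
import Groth.Agent.ShriekAffine.CMRev
import Groth.Agent.CMChart.Pieces
import Groth.Agent.DeltaZ.Scheme
import Groth.Agent.Goren.LinkCM

/-!
Fibre dimensions of an algebra in terms of the minimal primes of its fibre rings.
-/

set_option autoImplicit false
set_option backward.isDefEq.respectTransparency false
set_option backward.isDefEq.respectTransparency.types false
set_option linter.style.haveILetI false
set_option linter.unusedSectionVars false
set_option maxHeartbeats 1600000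

universe u

open CategoryTheory Limits AlgebraicGeometry
open scoped TensorProduct

attribute [local instance] HasDerivedCategory.standard

namespace Groth.Agent.ExtFlatCM

noncomputable section

/-- all minimal primes have coheight `n` -/
def Equidim (n : ℕ) (F : Type u) [CommRing F] : Prop :=
  ∀ Q : PrimeSpectrum F, Q.asIdeal ∈ minimalPrimes F → Order.coheight Q = (n : ℕ∞)

theorem equidim_iff_of_ringEquiv {F F' : Type u} [CommRing F] [CommRing F'] (e : F ≃+* F') {n : ℕ}
    (h : Equidim n F) : Equidim n F' := fun Q hQ => by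
  let o : PrimeSpectrum F' ≃o PrimeSpectrum F := (PrimeSpectrum.comapEquiv e).symm
  rw [← Order.coheight_orderIso o Q]
  exact h (o Q) (PrimeSpectrum.isMin_iff.1 (o.isMin_apply.2 (PrimeSpectrum.isMin_iff.2 hQ)))

theorem localDim_of_equidim {k F : Type u} [Field k] [CommRing F] [Algebra k F] [Algebra.FiniteType k F] {n : ℕ}
    (h : Equidim n F) (z : PrimeSpectrum F) :
    FlatMor.localDim (PrimeSpectrum F) z = (n : WithBot ℕ∞) := by
  have hQ : ∀ P ∈ minimalPrimes F, ringKrullDim (F ⧸ P) = (n : WithBot ℕ∞) := fun P hP => by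
    have h' := DeltaZ.ringKrullDim_quotient_eq_coheight (⟨P, hP.1.1⟩ : PrimeSpectrum F)
    rw [h ⟨P, hP.1.1⟩ hP] at h'
    exact h'
  obtain ⟨⟨P, hP, hPz, hle⟩, hge⟩ := LocalDimBC.localDim_spec (k := k) z
  exact le_antisymm (hle.trans (hQ P hP).le) ((hQ P hP).ge.trans (hge P hP hPz))

variable (R B : Type u) [CommRing R] [CommRing B] [Algebra R B]

/-- fibre dimensions from the fibre rings -/
theorem fibreDimAt_of_equidim [Algebra.FiniteType R B] {n : ℕ}
    (h : ∀ p : PrimeSpectrum R, Equidim n (p.asIdeal.ResidueField ⊗[R] B)) (x : PrimeSpectrum B) :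
    FlatMor.fibreDimAt (Spec.map (CommRingCat.ofHom (algebraMap R B))) x = (n : WithBot ℕ∞) := by
  let p := PrimeSpectrum.comap (algebraMap R B) x
  let k := p.asIdeal.ResidueField
  let f := Spec.map (CommRingCat.ofHom (algebraMap R B))
  let g := Spec.map (CommRingCat.ofHom (algebraMap k (k ⊗[R] B)))
  haveI : LocallyOfFiniteType f :=
    (HasRingHomProperty.Spec_iff (P := @LocallyOfFiniteType)).mpr (RingHom.finiteType_algebraMap.mpr inferInstance)
  haveI : LocallyOfFiniteType g :=
    (HasRingHomProperty.Spec_iff (P := @LocallyOfFiniteType)).mpr (RingHom.finiteType_algebraMap.mpr inferInstance)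
  have sq := (isPullback_SpecMap_of_isPushout _ _ _ _ (CommRingCat.isPushout_tensorProduct R k B)).flip
  let z : Spec (CommRingCat.of (k ⊗[R] B)) := PrimeSpectrum.preimageOrderIsoFiber R B p ⟨x, rfl⟩
  have hz : Spec.map (CommRingCat.ofHom (Algebra.TensorProduct.includeRight : B →ₐ[R] k ⊗[R] B).toRingHom) z = x :=
    congrArg Subtype.val ((PrimeSpectrum.preimageOrderIsoFiber R B p).symm_apply_apply ⟨x, rfl⟩)
  have h1 := LocalDimBC.fibreDimAt_of_isPullback f _ _ g sq z
  have h2 : FlatMor.fibreDimAt g z = (n : WithBot ℕ∞) :=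
    (CMChart.fibreDimAt_eq_localDim g z).trans (localDim_of_equidim (k := k) (h p) z)
  rw [← h2, h1]
  exact congrArg (FlatMor.fibreDimAt f) hz.symm

/-- in a Jacobson ring with finitely many minimal primes each component has a closed point of its own -/
theorem exists_maximal_only {F : Type u} [CommRing F] [IsNoetherianRing F] [IsJacobsonRing F] {Q : Ideal F}
    (hQ : Q ∈ minimalPrimes F) :
    ∃ m : Ideal F, m.IsMaximal ∧ ∀ P ∈ minimalPrimes F, P ≤ m → P = Q := by
  classical
  haveI := hQ.1.1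
  let s : Finset (Ideal F) := (minimalPrimes.finite_of_isNoetherianRing F).toFinset.erase Q
  have h : ¬ s.inf id ≤ Q := fun hle => by
    obtain ⟨P, hP, hPQ⟩ := (Ideal.IsPrime.inf_le' hQ.1.1).1 hle
    have hP' := Set.Finite.mem_toFinset _ |>.1 (Finset.mem_of_mem_erase hP)
    exact Finset.ne_of_mem_erase hP (le_antisymm hPQ (hQ.2 hP'.1 hPQ))
  obtain ⟨a, ha, haQ⟩ := SetLike.not_le_iff_exists.1 h
  have hj : Q.jacobson = Q := IsJacobsonRing.out' Q (Ideal.IsPrime.isRadical inferInstance)
  rw [← hj] at haQ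
  obtain ⟨m, ⟨hQm, hm⟩, ham⟩ : ∃ m ∈ {J : Ideal F | Q ≤ J ∧ J.IsMaximal}, a ∉ m := by
    by_contra hc
    push Not at hc
    exact haQ (Ideal.mem_sInf.2 fun {J} hJ => hc J hJ)
  refine ⟨m, hm, fun P hP hPm => by_contra fun hne => ham (hPm ?_)⟩
  exact (Finset.inf_le (f := id) (Finset.mem_erase.2 ⟨hne, Set.Finite.mem_toFinset _ |>.2 hP⟩) : s.inf id ≤ P) ha

/-- Cohen–Macaulay fibre rings -/
theorem isCMRing_fibre [Algebra.FiniteType R B]
    (h : ∀ x : PrimeSpectrum B, MoreMor.IsCMAt (Spec.map (CommRingCat.ofHom (algebraMap R B))) x)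
    (p : PrimeSpectrum R) : LocCoh.IsCohenMacaulayRing (p.asIdeal.ResidueField ⊗[R] B) := by
  let k := p.asIdeal.ResidueField
  haveI : IsNoetherianRing (k ⊗[R] B) := Algebra.FiniteType.isNoetherianRing k (k ⊗[R] B)
  refine { isCohenMacaulayLocalRing_localization := fun Q _ => ?_ }
  let f := Spec.map (CommRingCat.ofHom (algebraMap R B))
  let g := Spec.map (CommRingCat.ofHom (algebraMap k (k ⊗[R] B)))
  haveI : LocallyOfFiniteType f :=
    (HasRingHomProperty.Spec_iff (P := @LocallyOfFiniteType)).mpr (RingHom.finiteType_algebraMap.mpr inferInstance)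
  haveI : LocallyOfFiniteType g :=
    (HasRingHomProperty.Spec_iff (P := @LocallyOfFiniteType)).mpr (RingHom.finiteType_algebraMap.mpr inferInstance)
  have sq := (isPullback_SpecMap_of_isPushout _ _ _ _ (CommRingCat.isPushout_tensorProduct R k B)).flip
  let z : Spec (CommRingCat.of (k ⊗[R] B)) := ⟨Q, inferInstance⟩
  haveI := GrpdSlice.isLocallyNoetherian_fiber f (Spec.map (CommRingCat.ofHom (algebraMap R k)) (g z))
  have hz : MoreMor.IsCMAt g z := CMFlat.isCMAt_baseChange sq z (Or.inr inferInstance) (h _)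
  let el : Localization.AtPrime Q ≃+* ((Spec (CommRingCat.of (k ⊗[R] B))).presheaf.stalk z : Type u) :=
    (StructureSheaf.stalkIso (CommRingCat.of (k ⊗[R] B)) z).toRingEquiv
  exact CMChart.isCohenMacaulayLocalRing_of_ringEquiv el.symm ((CMChart.isCMAt_iff_stalk g z).1 hz)

variable [IsNoetherianRing R] [IsNoetherianRing B] [Module.Flat R B] {N : ℕ}
  {ψ : MvPolynomial (Fin N) R →ₐ[R] B} (hψ : Function.Surjective ψ)
  [DRing.HasLBaseChange (algebraMap R (MvPolynomial (Fin N) R))]
  {Rψ : Dual.D (MvPolynomial (Fin N) R) ⥤ Dual.D B} (adj : DRing.restrictD ψ.toRingHom ⊣ Rψ) {n : ℕ}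

include hψ adj in
/-- the dualizing degree is the dimension of every component -/
theorem equidim_of_single
    (hv : ∀ i : ℤ, i ≠ -(n : ℤ) → Subsingleton (Dual.HD B (Dual2.shriekVia N Rψ (Dual.inD R R)) i))
    (hflat : Module.Flat R ((ModuleCat.restrictScalars.{u} (algebraMap R B)).obj
      ((DerivedCategory.homologyFunctor (ModuleCat.{u} B) (-(n : ℤ))).obj (Dual2.shriekVia N Rψ (Dual.inD R R)))))
    (p : PrimeSpectrum R) (hCM : LocCoh.IsCohenMacaulayRing (p.asIdeal.ResidueField ⊗[R] B)) :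
    Equidim n (p.asIdeal.ResidueField ⊗[R] B) := by
  haveI := fun (S T : Type u) [CommRing S] [CommRing T] (φ : S →+* T) => DRingKP.hasLBaseChange φ
  haveI : Algebra.FiniteType R B := Algebra.FiniteType.of_surjective ψ hψ
  haveI : Algebra.FinitePresentation R B := Algebra.FinitePresentation.of_finiteType.1 inferInstance
  let k := p.asIdeal.ResidueField
  let F := k ⊗[R] B
  let ι : B →+* F := (Algebra.TensorProduct.includeRight : B →ₐ[R] F).toRingHom
  haveI : IsNoetherianRing F := Algebra.FiniteType.isNoetherianRing k F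
  haveI : IsJacobsonRing F := isJacobsonRing_of_finiteType (A := k)
  let W := Dual2.shriekVia N Rψ (Dual.inD R R)
  obtain ⟨W', hW', ⟨eW⟩⟩ := DTenLib.exists_kFlat_rep W
  have h1 : Shriek.Shr ψ (DerivedCategory.Q.obj W') (Dual.inD R R) :=
    Shriek.RA.of_iso (Shriek.shr_shriekVia ψ Rψ adj (Dual.inD R R)) eW.symm (Iso.refl _)
  let Wk := (DRing.LBaseChange ι).obj W
  have hs : Shriek.Shr _ Wk (Dual.inD k k) := Shriek.RA.of_iso (Shriek.Shr.baseChange_self (R' := k) hψ hW' h1)
    ((Shriek.lbcKFlatIso ι hW').symm ≪≫ (DRing.LBaseChange ι).mapIso eW) (Iso.refl _)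
  have hω : Dual.IsDualizing F Wk := Shriek.isDualizing_shriekVia_fibre (R := R) hψ Rψ adj k
  haveI : W.IsGE (-(n : ℤ)) := (DerivedCategory.isGE_iff _ _).2 fun i hi =>
    haveI := hv i (by omega)
    ModuleCat.isZero_of_subsingleton _
  haveI : W.IsLE (-(n : ℤ)) := (DerivedCategory.isLE_iff _ _).2 fun i hi =>
    haveI := hv i (by omega)
    ModuleCat.isZero_of_subsingleton _
  obtain ⟨M, ⟨eM⟩⟩ := DerivedCategory.exists_iso_singleFunctor_obj_of_isGE_of_isLE W (-(n : ℤ))
  let eH : (DerivedCategory.homologyFunctor (ModuleCat.{u} B) (-(n : ℤ))).obj W ≅ M :=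
    ((DerivedCategory.homologyFunctor (ModuleCat.{u} B) (-(n : ℤ))).mapIso eM) ≪≫
      (DerivedCategory.singleFunctorCompHomologyFunctorIso (ModuleCat.{u} B) (-(n : ℤ))).app M
  haveI : Module.Flat R ((ModuleCat.restrictScalars.{u} (algebraMap R B)).obj M) :=
    Module.Flat.of_linearEquiv ((ModuleCat.restrictScalars.{u} (algebraMap R B)).mapIso eH).symm.toLinearEquiv
  let eWM : W ≅ (Dual.inD B M)⟦(n : ℤ)⟧ := eM ≪≫
    (((DerivedCategory.singleFunctors (ModuleCat.{u} B)).shiftIso (n : ℤ) (-(n : ℤ)) 0 (by omega)).app M).symm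
  intro Q hQ
  obtain ⟨m, hm, honly⟩ := exists_maximal_only hQ
  haveI := hm
  obtain ⟨⟨P, hP, hPm, hle⟩, hge⟩ := LocalDimBC.localDim_spec (k := k) (⟨m, hm.isPrime⟩ : PrimeSpectrum F)
  obtain rfl := honly P hP hPm
  let g := Spec.map (CommRingCat.ofHom (algebraMap k F))
  haveI : LocallyOfFiniteType g :=
    (HasRingHomProperty.Spec_iff (P := @LocallyOfFiniteType)).mpr (RingHom.finiteType_algebraMap.mpr inferInstance)
  let z : Spec (CommRingCat.of F) := ⟨m, inferInstance⟩
  obtain ⟨b, δ, hb, hD, -, hδ⟩ := CMChart.localDim_field_eq g z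
  rw [hδ (PrimeSpectrum.isClosed_singleton_iff_isMaximal z |>.2 ‹_›), add_zero] at hD
  have hdim : ringKrullDim (F ⧸ Q.asIdeal) = (b : WithBot ℕ∞) :=
    le_antisymm ((hge _ hQ hPm).trans hD.le) (hD.ge.trans hle)
  suffices b = n by
    have h2 := DeltaZ.ringKrullDim_quotient_eq_coheight Q
    rw [hdim, this] at h2
    exact_mod_cast h2.symm
  let el : Localization.AtPrime m ≃+* ((Spec (CommRingCat.of F)).presheaf.stalk z : Type u) :=
    (StructureSheaf.stalkIso (CommRingCat.of F) z).toRingEquiv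
  have hCMm : LocCoh.IsCohenMacaulayLocalRing (Localization.AtPrime m) :=
    LocCoh.IsCohenMacaulayRing.isCohenMacaulayLocalRing_localization (R := F) m
  by_contra hne
  have hvan : ∀ i : ℤ, DualCx.Van Wk m F i := fun i => by
    by_cases hi : i = -(n : ℤ)
    · have := ShriekAffine.subsingleton_hd_field (Shriek.bcPres_surjective hψ) hs m hCMm
        ((ringKrullDim_eq_of_ringEquiv el).trans hb) (i := i) (by omega)
      intro x
      obtain ⟨r, hr, hrx⟩ := LocalizedModule.subsingleton_iff.mp this (DualCx.homEquiv Wk i x)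
      exact ⟨r, hr, (DualCx.homEquiv Wk i).injective ((map_smul _ _ _).trans (hrx.trans (map_zero _).symm))⟩
    · have := ShriekAffine.subsingleton_hd_lbc_flat (R := R) k M eWM hi
      exact DualCx.van_of_subsingleton Ideal.IsPrime.ne_top'
        ((DualCx.homEquiv _ i).toEquiv.subsingleton_congr.2 this)
  obtain ⟨d, -, hd, -⟩ := DualCx.exists_max hω (M := F) (q := ⟨m, hm.isPrime⟩) (by
    rw [Module.support_eq_zeroLocus, Module.annihilator_eq_bot.2 inferInstance]
    exact fun a ha => by rw [(Submodule.mem_bot F).1 ha]; exact Ideal.zero_mem _)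
  exact hd (hvan _)

include hψ adj in
/-- **equidimensional Cohen–Macaulay fibres: `φ^! R` is one flat module in degree `-n`** -/
theorem cm_fibres_iff :
    (∀ p : PrimeSpectrum R, LocCoh.IsCohenMacaulayRing (B ⊗[R] p.asIdeal.ResidueField) ∧
      Equidim n (B ⊗[R] p.asIdeal.ResidueField)) ↔
    (∀ i : ℤ, i ≠ -(n : ℤ) → Subsingleton (Dual.HD B (Dual2.shriekVia N Rψ (Dual.inD R R)) i)) ∧
      Module.Flat R ((ModuleCat.restrictScalars.{u} (algebraMap R B)).obj
        ((DerivedCategory.homologyFunctor (ModuleCat.{u} B) (-(n : ℤ))).obj (Dual2.shriekVia N Rψ (Dual.inD R R)))) := by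
  haveI : Algebra.FiniteType R B := Algebra.FiniteType.of_surjective ψ hψ
  let sw := fun p : PrimeSpectrum R => (Algebra.TensorProduct.comm R B p.asIdeal.ResidueField).toRingEquiv
  constructor
  · intro h
    have hCM := CMChart.isCMAt_Spec (R := R) (S := B) fun p =>
      haveI := (h p).1; Goren.isCohenMacaulayRing_of_ringEquiv (sw p)
    have hd := fibreDimAt_of_equidim R B (n := n) fun p => equidim_iff_of_ringEquiv (sw p) (h p).2
    exact ⟨fun i hi => ShriekAffine.subsingleton_hd_of_cm hψ adj hCM hd hi,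
      ShriekAffine.flat_hd_of_cm hψ adj hCM hd⟩
  · rintro ⟨hv, hfl⟩ p
    have hCM := isCMRing_fibre R B (ShriekAffine.isCMAt_of_single hψ adj hv) p
    exact ⟨haveI := hCM; Goren.isCohenMacaulayRing_of_ringEquiv (sw p).symm,
      equidim_iff_of_ringEquiv (sw p).symm (equidim_of_single R B hψ adj hv hfl p hCM)⟩

end

end Groth.Agent.ExtFlatCM
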