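import Groth.Agent.ExtFlatCM.Bridge
import Groth.Agent.Shriek.GorFib
import Groth.Agent.QFDualLib.Synt
import Groth.Agent.DualCx.LocGlobal
import Groth.Agent.S1801

/-!
Invertibility of the cohomology of `φ^! R` and Gorenstein fibres.
-/

set_option autoImplicit false
set_option backward.isDefEq.respectTransparency false
set_option backward.isDefEq.respectTransparency.types false
set_option linter.style.haveILetI false
set_option linter.unusedSectionVars false
set_option maxHeartbeats 1600000

universe u

open CategoryTheory Limits DerivedCategory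
open scoped TensorProduct

attribute [local instance] HasDerivedCategory.standard

namespace Groth.Agent.ExtFlatCM

noncomputable section

variable (R B : Type u) [CommRing R] [CommRing B] [Algebra R B] [IsNoetherianRing R] [IsNoetherianRing B]
  [Module.Flat R B] {N : ℕ} {ψ : MvPolynomial (Fin N) R →ₐ[R] B} (hψ : Function.Surjective ψ)
  [DRing.HasLBaseChange (algebraMap R (MvPolynomial (Fin N) R))]
  {Rψ : Dual.D (MvPolynomial (Fin N) R) ⥤ Dual.D B} (adj : DRing.restrictD ψ.toRingHom ⊣ Rψ) {n : ℕ}

/-- localising a complex in one degree -/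
theorem lbc_single (g : B) [DRing.HasLBaseChange (algebraMap B (Localization.Away g))] {W : Dual.D B}
    {M : Type u} [AddCommGroup M] [Module B M] (m : ℤ) (e : W ≅ (Dual.inD B M)⟦m⟧) :
    Nonempty ((DRing.LBaseChange (algebraMap B (Localization.Away g))).obj W ≅
      (Dual.inD (Localization.Away g) (Localization.Away g ⊗[B] M))⟦m⟧) := by
  let φ := algebraMap B (Localization.Away g)
  haveI : Module.Flat B (Localization.Away g) := IsLocalization.flat _ (Submonoid.powers g)
  haveI : PreservesFiniteLimits (DualCx.ext φ) :=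
    ModuleCat.preservesFiniteLimits_extendScalars_of_flat (RingHom.flat_algebraMap_iff.2 inferInstance)
  exact ⟨DualCx.lBaseChangeObjIso φ W ≪≫ (DualCx.locD φ).mapIso e ≪≫
    ((DualCx.locD φ).commShiftIso m).app _ ≪≫ (shiftFunctor _ m).mapIso (DualCx.locInD φ M ≪≫
      (DerivedCategory.singleFunctor (ModuleCat.{u} (Localization.Away g)) 0).mapIso
        (DRingKP.extendTensorIso _))⟩

/-- the module of a shifted single module -/
theorem eq_of_shift_iso {C : Type u} [CommRing C] [Nontrivial C] {M : Type u} [AddCommGroup M] [Module C M] {m m' : ℤ}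
    (e : (Dual.inD C C)⟦m⟧ ≅ (Dual.inD C M)⟦m'⟧) : Nonempty (M ≃ₗ[C] C) := by
  let H := DerivedCategory.homologyFunctor (ModuleCat.{u} C) (-m)
  have hC : ∀ (X : Type u) [AddCommGroup X] [Module C X] (a : ℤ), a = m →
      Nonempty (H.obj ((Dual.inD C X)⟦a⟧) ≅ ModuleCat.of C X) := fun X _ _ a ha =>
    ⟨H.mapIso (((DerivedCategory.singleFunctors (ModuleCat.{u} C)).shiftIso a (-m) 0 (by omega)).app (ModuleCat.of C X)) ≪≫
      (DerivedCategory.singleFunctorCompHomologyFunctorIso (ModuleCat.{u} C) (-m)).app _⟩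
  obtain ⟨e₁⟩ := hC C m rfl
  rcases eq_or_ne m' m with h | h
  · obtain ⟨e₂⟩ := hC M m' h
    exact ⟨(e₁.symm ≪≫ H.mapIso e ≪≫ e₂).toLinearEquiv.symm⟩
  · exfalso
    haveI : ((Dual.inD C M)⟦m'⟧).IsGE (-m') := DerivedCategory.TStructure.t.isGE_shift _ 0 m' _ (by omega)
    haveI : ((Dual.inD C M)⟦m'⟧).IsLE (-m') := DerivedCategory.TStructure.t.isLE_shift _ 0 m' _ (by omega)
    have hz : IsZero (H.obj ((Dual.inD C M)⟦m'⟧)) := by
      rcases lt_or_gt_of_ne h with hlt | hgt
      · exact DerivedCategory.isZero_of_isGE _ (-m') _ (by omega)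
      · exact DerivedCategory.isZero_of_isLE _ (-m') _ (by omega)
    have := ModuleCat.subsingleton_of_isZero ((hz.of_iso (H.mapIso e)).of_iso e₁.symm)
    exact not_subsingleton C this

include hψ adj in
/-- **Gorenstein fibres iff the one cohomology module is invertible** -/
theorem gorenstein_fibres_iff_invertible
    (hv : ∀ i : ℤ, i ≠ -(n : ℤ) → Subsingleton (Dual.HD B (Dual2.shriekVia N Rψ (Dual.inD R R)) i)) :
    Module.Invertible B (Dual.HD B (Dual2.shriekVia N Rψ (Dual.inD R R)) (-(n : ℤ))) ↔
      ∀ p : PrimeSpectrum R, LocCoh.IsGorensteinRing (B ⊗[R] p.asIdeal.ResidueField) := by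
  haveI := fun (S T : Type u) [CommRing S] [CommRing T] (φ : S →+* T) => DRingKP.hasLBaseChange φ
  haveI : Algebra.FiniteType R B := Algebra.FiniteType.of_surjective ψ hψ
  haveI : Algebra.FinitePresentation R B := Algebra.FinitePresentation.of_finiteType.1 inferInstance
  let W := Dual2.shriekVia N Rψ (Dual.inD R R)
  haveI : W.IsGE (-(n : ℤ)) := (DerivedCategory.isGE_iff _ _).2 fun i hi =>
    haveI := hv i (by omega)
    ModuleCat.isZero_of_subsingleton _
  haveI : W.IsLE (-(n : ℤ)) := (DerivedCategory.isLE_iff _ _).2 fun i hi =>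
    haveI := hv i (by omega)
    ModuleCat.isZero_of_subsingleton _
  obtain ⟨M, ⟨eM⟩⟩ := DerivedCategory.exists_iso_singleFunctor_obj_of_isGE_of_isLE W (-(n : ℤ))
  let eH : Dual.HD B W (-(n : ℤ)) ≃ₗ[B] (M : Type u) :=
    (((DerivedCategory.homologyFunctor (ModuleCat.{u} B) (-(n : ℤ))).mapIso eM) ≪≫
      (DerivedCategory.singleFunctorCompHomologyFunctorIso (ModuleCat.{u} B) (-(n : ℤ))).app M).toLinearEquiv
  let eWM : W ≅ (Dual.inD B M)⟦(n : ℤ)⟧ := eM ≪≫
    (((DerivedCategory.singleFunctors (ModuleCat.{u} B)).shiftIso (n : ℤ) (-(n : ℤ)) 0 (by omega)).app M).symm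
  constructor
  · intro hI
    haveI : Module.Invertible B M := Module.Invertible.congr eH
    obtain ⟨s, hs, hfree⟩ := Module.Invertible.exists_finset_free_localization (R := B) (M := M)
    refine Shriek.gorenstein_fibres_of_shriekVia hψ Rψ adj fun q => ?_
    obtain ⟨g, hg, hgq⟩ : ∃ g ∈ s, g ∉ q.asIdeal := by
      by_contra hc
      push Not at hc
      exact q.isPrime.ne_top (top_le_iff.1 (hs ▸ Ideal.span_le.2 hc))
    haveI := hfree g hg
    haveI : Module.Free (Localization.Away g) (Localization.Away g ⊗[B] (M : Type u)) :=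
      Module.Free.of_equiv (LocalizedModule.equivTensorProduct (Submonoid.powers g) (M : Type u))
    obtain ⟨e₁⟩ := Module.Invertible.free_iff_linearEquiv.1
      (inferInstance : Module.Free (Localization.Away g) (Localization.Away g ⊗[B] (M : Type u)))
    obtain ⟨e⟩ := lbc_single B g (n : ℤ) eWM
    exact ⟨g, hgq, n, ⟨e ≪≫ (shiftFunctor _ (n : ℤ)).mapIso
      ((DerivedCategory.singleFunctor (ModuleCat.{u} (Localization.Away g)) 0).mapIso e₁.toModuleIso)⟩⟩
  · intro hG
    haveI := (S1801.result R B N ψ hψ Rψ adj).2.1 (-(n : ℤ))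
    haveI : Module.Finite B (M : Type u) := Module.Finite.equiv eH
    suffices Module.Invertible B (M : Type u) from Module.Invertible.congr eH.symm
    refine QFDualLib.invertible_of_local fun q _ => ?_
    obtain ⟨g, hgq, m, ⟨e⟩⟩ := Shriek.shriekVia_of_gorenstein_fibres hψ Rψ adj hG ⟨q, inferInstance⟩
    obtain ⟨e'⟩ := lbc_single B g (n : ℤ) eWM
    haveI : Nontrivial (Localization.Away g) := by
      refine not_subsingleton_iff_nontrivial.1 fun h => ?_
      obtain ⟨k, hk⟩ := (IsLocalization.subsingleton_iff (M := Submonoid.powers g) (S := Localization.Away g)).1 h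
      exact hgq (Ideal.IsPrime.mem_of_pow_mem ‹_› k (by have hk' : g ^ k = 0 := hk; rw [hk']; exact Ideal.zero_mem _))
    obtain ⟨e₁⟩ := eq_of_shift_iso (e.symm ≪≫ e')
    let L := Localization.AtPrime q
    letI : Algebra (Localization.Away g) L :=
      (IsLocalization.Away.lift g (g := algebraMap B L) (IsLocalization.map_units L (⟨g, hgq⟩ : q.primeCompl))).toAlgebra
    haveI : IsScalarTower B (Localization.Away g) L := IsScalarTower.of_algebraMap_eq fun b =>
      (IsLocalization.Away.lift_eq g _ b).symm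
    exact ⟨(TensorProduct.AlgebraTensorModule.cancelBaseChange B (Localization.Away g) L L (M : Type u)).symm.trans
      ((TensorProduct.AlgebraTensorModule.congr (LinearEquiv.refl L L) e₁).trans
        (TensorProduct.AlgebraTensorModule.rid (Localization.Away g) L L))⟩

end

end Groth.Agent.ExtFlatCM
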